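import Cfsg.Prelude.Def_TwoFusion
import Cfsg.Agent.Small.Dihedral
import Mathlib.GroupTheory.Sylow
import Mathlib.GroupTheory.Subgroup.Centralizer

/-!
# Isolated involutions: elementary theory

For an isolated involution `z` (the only conjugate commuting with `z` is `z` itself):
products of conjugates have odd order, `z` is central in every 2-subgroup containing it,
`H ∩ z^G` is one `H`-class, centralizers control conjugacy, `G = K C_G(z)`.
-/

namespace CfsgLib.Isolated

open CfsgLib.Small Cfsg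

variable {G : Type*} [Group G]

/-- In `⟨x, y⟩` the element `x (xy)^k` is a conjugate of `x` or of `y`. -/
theorem mul_pow_isConj {x y : G} (hx : orderOf x = 2) (hy : orderOf y = 2) (k : ℕ) :
    (Even k ∧ IsConj x (x * (x * y) ^ k)) ∨ (Odd k ∧ IsConj y (x * (x * y) ^ k)) := by
  have hinv := invol_conj_mul hx hy
  have key : ∀ j : ℕ, ∀ a : G, a * (x * y) = (x * y) * a →
      ((x * y) ^ j)⁻¹ * (x * a) * (x * y) ^ j = x * a * (x * y) ^ (2 * j) := by
    intro j a ha
    have ha' : Commute a ((x * y) ^ j) := (show Commute a (x * y) from ha).pow_right j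
    have h1 : ((x * y) ^ j)⁻¹ * x = x * (x * y) ^ j := by
      rw [← invol_conj_pow hinv j, inv_mul_cancel_right]
    calc ((x * y) ^ j)⁻¹ * (x * a) * (x * y) ^ j
        = (((x * y) ^ j)⁻¹ * x) * (a * (x * y) ^ j) := by group
      _ = x * (((x * y) ^ j) * a) * (x * y) ^ j := by rw [h1]; group
      _ = x * a * (x * y) ^ (2 * j) := by
            rw [← ha'.eq, two_mul, pow_add]; group
  rcases Nat.even_or_odd' k with ⟨j, rfl | rfl⟩
  · refine Or.inl ⟨even_two_mul j, isConj_iff.2 ⟨((x * y) ^ j)⁻¹, ?_⟩⟩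
    have := key j 1 (by simp)
    simpa using this
  · refine Or.inr ⟨odd_two_mul_add_one j, isConj_iff.2 ⟨((x * y) ^ j)⁻¹, ?_⟩⟩
    have h := key j (x * y) rfl
    rw [show x * (x * y) = y by rw [← mul_assoc, mul_self_of_orderOf_two hx, one_mul]] at h
    rw [inv_inv, h, pow_succ', ← mul_assoc x, ← mul_assoc x x y, mul_self_of_orderOf_two hx, one_mul]

/-- If `x` inverts `u` then `u x u⁻¹ = u² x`. -/
theorem conj_eq_sq_mul {x u : G} (h : x * u * x⁻¹ = u⁻¹) : u * x * u⁻¹ = u ^ 2 * x := by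
  have h' : x * u⁻¹ = u * x := by
    have h2 : x * u⁻¹ * x⁻¹ = u := by
      rw [← conj_inv, h, inv_inv]
    exact mul_inv_eq_iff_eq_mul.1 h2
  rw [mul_assoc, h', sq, mul_assoc]

/-- An element of odd order is a power of its square. -/
theorem mem_zpowers_sq {u : G} (h : Odd (orderOf u)) : u ∈ Subgroup.zpowers (u ^ 2) := by
  obtain ⟨m, hm⟩ := h
  refine Subgroup.mem_zpowers_iff.2 ⟨((m + 1 : ℕ) : ℤ), ?_⟩
  rw [zpow_natCast, ← pow_mul, show 2 * (m + 1) = orderOf u + 1 by omega, pow_succ,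
    pow_orderOf_eq_one, one_mul]

/-- Elements of odd order with equal squares are equal. -/
theorem eq_of_sq_eq_of_odd {a b : G} (ha : Odd (orderOf a)) (hb : Odd (orderOf b))
    (h : a ^ 2 = b ^ 2) : a = b := by
  have hab : orderOf a = orderOf b := by
    rw [← Nat.Coprime.orderOf_pow (y := a) ha.coprime_two_right.symm.symm,
      ← Nat.Coprime.orderOf_pow (y := b) hb.coprime_two_right.symm.symm, h]
  obtain ⟨m, hm⟩ := ha
  have e1 : (a ^ 2) ^ (m + 1) = a := by
    rw [← pow_mul, show 2 * (m + 1) = orderOf a + 1 by omega, pow_succ, pow_orderOf_eq_one, one_mul]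
  have e2 : (b ^ 2) ^ (m + 1) = b := by
    rw [← pow_mul, show 2 * (m + 1) = orderOf b + 1 by omega, pow_succ, pow_orderOf_eq_one, one_mul]
  rw [← e1, h, e2]

/-- `a` normalizes `⟨u⟩` when it and its inverse conjugate `u` into `⟨u⟩`. -/
theorem mem_normalizer_zpowers {a u : G} (h : a * u * a⁻¹ ∈ Subgroup.zpowers u)
    (h' : a⁻¹ * u * a ∈ Subgroup.zpowers u) :
    a ∈ Subgroup.normalizer ((Subgroup.zpowers u : Subgroup G) : Set G) := by
  rw [Subgroup.mem_normalizer_iff]
  intro v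
  constructor <;> intro hv
  · obtain ⟨i, rfl⟩ := Subgroup.mem_zpowers_iff.1 hv
    rw [← conj_zpow]
    exact zpow_mem h i
  · obtain ⟨i, hi⟩ := Subgroup.mem_zpowers_iff.1 hv
    have : v = (a⁻¹ * u * a) ^ i := by
      have e := conj_zpow (a := a⁻¹) (b := u) (i := i)
      rw [inv_inv] at e
      rw [e, hi]; group
    rw [this]
    exact zpow_mem h' i

variable [Finite G]

theorem odd_orderOf_of_dvd {a : G} {n : ℕ} (hn : Odd n) (h : a ^ n = 1) : Odd (orderOf a) :=
  hn.of_dvd_nat (orderOf_dvd_of_pow_eq_one h)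

theorem odd_orderOf_of_mem_zpowers {a u : G} (hu : Odd (orderOf u))
    (ha : a ∈ Subgroup.zpowers u) : Odd (orderOf a) := by
  obtain ⟨i, rfl⟩ := Subgroup.mem_zpowers_iff.1 ha
  refine odd_orderOf_of_dvd hu ?_
  rw [← zpow_natCast, ← zpow_mul, mul_comm, zpow_mul, zpow_natCast, pow_orderOf_eq_one, one_zpow]

variable {z : G}

/-- A conjugate of an isolated involution is isolated. -/
theorem isolated_conj (hz : IsIsolatedInvolution z) (g : G) :
    IsIsolatedInvolution (g * z * g⁻¹) := by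
  refine ⟨by rw [orderOf_conj_eq, hz.1], fun h hc => ?_⟩
  have hc' : Commute z ((g⁻¹ * h * g) * z * (g⁻¹ * h * g)⁻¹) := by
    have := hc.map (MulAut.conj g⁻¹).toMonoidHom
    simp only [MulEquiv.coe_toMonoidHom, MulAut.conj_apply, inv_inv] at this
    convert this using 1 <;> group
  have := hz.2 _ hc'
  calc h * (g * z * g⁻¹) * h⁻¹ = g * ((g⁻¹ * h * g) * z * (g⁻¹ * h * g)⁻¹) * g⁻¹ := by group
    _ = g * z * g⁻¹ := by rw [this]

theorem eq_of_commute_of_isConj (hz : IsIsolatedInvolution z) {a b : G} (ha : IsConj z a)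
    (hb : IsConj z b) (hc : Commute a b) : b = a := by
  obtain ⟨g, rfl⟩ := isConj_iff.1 ha
  obtain ⟨h, rfl⟩ := isConj_iff.1 hb
  have e : (h * g⁻¹) * (g * z * g⁻¹) * (h * g⁻¹)⁻¹ = h * z * h⁻¹ := by group
  rw [← e] at hc ⊢
  exact (isolated_conj hz g).2 _ hc

/-- Two conjugates of an isolated involution have product of odd order. -/
theorem odd_mul (hz : IsIsolatedInvolution z) {a b : G} (ha : IsConj z a)
    (hb : IsConj z b) : Odd (orderOf (a * b)) := by
  have hxa : orderOf a = 2 := by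
    obtain ⟨g, rfl⟩ := isConj_iff.1 ha; rw [orderOf_conj_eq, hz.1]
  have hxb : orderOf b = 2 := by
    obtain ⟨g, rfl⟩ := isConj_iff.1 hb; rw [orderOf_conj_eq, hz.1]
  by_contra hodd
  rw [Nat.not_odd_iff_even] at hodd
  obtain ⟨hw, hwa, -⟩ := half_pow_spec hxa hxb hodd
  set w := (a * b) ^ (orderOf (a * b) / 2)
  have hc : Commute a (a * w) := (Commute.refl a).mul_right hwa.symm
  have hconj : IsConj z (a * w) := by
    rcases mul_pow_isConj hxa hxb (orderOf (a * b) / 2) with ⟨-, h⟩ | ⟨-, h⟩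
    · exact ha.trans h
    · exact hb.trans h
  have := eq_of_commute_of_isConj hz ha hconj hc
  rw [mul_eq_left] at this
  rw [this, orderOf_one] at hw
  omega

/-- Two conjugates of an isolated involution are conjugate by a power of their product. -/
theorem exists_conj_mem_zpowers (hz : IsIsolatedInvolution z) {a b : G} (ha : IsConj z a)
    (hb : IsConj z b) : ∃ k ∈ Subgroup.zpowers (a * b), k * a * k⁻¹ = b := by
  have hxa : orderOf a = 2 := by
    obtain ⟨g, rfl⟩ := isConj_iff.1 ha; rw [orderOf_conj_eq, hz.1]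
  have hxb : orderOf b = 2 := by
    obtain ⟨g, rfl⟩ := isConj_iff.1 hb; rw [orderOf_conj_eq, hz.1]
  obtain ⟨k, hk⟩ := conj_pow_eq_of_odd hxa hxb (odd_mul hz ha hb)
  exact ⟨_, Subgroup.npow_mem_zpowers _ k, hk⟩

/-- An isolated involution is central in every 2-subgroup containing it. -/
theorem commute_of_isPGroup (hz : IsIsolatedInvolution z) {Q : Subgroup G} (hQ : IsPGroup 2 Q)
    (hzQ : z ∈ Q) {s : G} (hs : s ∈ Q) : Commute s z := by
  haveI : Fact (Nat.Prime 2) := ⟨Nat.prime_two⟩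
  have hb : IsConj z (s * z * s⁻¹) := isConj_iff.2 ⟨s, rfl⟩
  have hm : z * (s * z * s⁻¹) ∈ Q := mul_mem hzQ (mul_mem (mul_mem hs hzQ) (inv_mem hs))
  obtain ⟨k, hk⟩ := IsPGroup.iff_orderOf.1 hQ ⟨_, hm⟩
  rw [Subgroup.orderOf_mk] at hk
  have hodd := odd_mul hz (IsConj.refl z) hb
  rw [hk] at hodd
  have hk0 : k = 0 := by
    by_contra h
    exact absurd hodd (Nat.not_odd_iff_even.2 (Nat.even_pow.2 ⟨even_two, h⟩))
  rw [hk0, pow_zero, orderOf_eq_one_iff] at hk
  have : s * z * s⁻¹ = z := by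
    rw [eq_inv_of_mul_eq_one_right hk, inv_eq_self_of_orderOf_two hz.1]
  exact mul_inv_eq_iff_eq_mul.1 this

/-- Conjugates of `z` in a subgroup `H` containing `z` are conjugate in `H`. -/
theorem exists_conj_mem (hz : IsIsolatedInvolution z) {H : Subgroup G} (hzH : z ∈ H) {g : G}
    (hg : g * z * g⁻¹ ∈ H) : ∃ h ∈ H, h * z * h⁻¹ = g * z * g⁻¹ := by
  obtain ⟨k, hk, e⟩ := exists_conj_mem_zpowers hz (IsConj.refl z) (isConj_iff.2 ⟨g, rfl⟩)
  exact ⟨k, (Subgroup.zpowers_le.2 (mul_mem hzH hg)) hk, e⟩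

/-- `C_G(z)` controls conjugacy: elements of `C_H(z)` conjugate in a `z`-invariant `H` are
conjugate in `C_H(z)`. -/
theorem exists_conj_centralizer (hz : IsIsolatedInvolution z) {H : Subgroup G}
    (hzH : z ∈ Subgroup.normalizer (H : Set G)) {x y : G} (hxz : Commute x z) (hyz : Commute y z)
    {h : G} (hh : h ∈ H) (hconj : h * x * h⁻¹ = y) :
    ∃ c ∈ H, Commute c z ∧ c * x * c⁻¹ = y := by
  have hb : IsConj z (h⁻¹ * z * h) := isConj_iff.2 ⟨h⁻¹, by rw [inv_inv]⟩
  obtain ⟨k, hk, e⟩ := exists_conj_mem_zpowers hz (IsConj.refl z) hb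
  have hmem : z * (h⁻¹ * z * h) ∈ H := by
    have : z * h⁻¹ * z⁻¹ ∈ H := (Subgroup.mem_normalizer_iff.1 hzH _).1 (inv_mem hh)
    have h2 := mul_mem this hh
    rwa [inv_eq_self_of_orderOf_two hz.1, mul_assoc, mul_assoc, ← mul_assoc h⁻¹,
      ] at h2
  have hxc : Commute x (z * (h⁻¹ * z * h)) := by
    refine hxz.mul_right ?_
    have := hyz.map (MulAut.conj h⁻¹).toMonoidHom
    simp only [MulEquiv.coe_toMonoidHom, MulAut.conj_apply, inv_inv] at this
    rwa [show h⁻¹ * y * h = x by rw [← hconj]; group] at this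
  have hkx : Commute k x := by
    obtain ⟨i, rfl⟩ := Subgroup.mem_zpowers_iff.1 hk
    exact hxc.symm.zpow_left i
  refine ⟨h * k, mul_mem hh ((Subgroup.zpowers_le.2 hmem) hk), ?_, ?_⟩
  · apply mul_inv_eq_iff_eq_mul.1
    rw [mul_inv_rev]
    calc h * k * z * (k⁻¹ * h⁻¹) = h * (k * z * k⁻¹) * h⁻¹ := by group
      _ = z := by rw [e]; group
  · rw [mul_inv_rev]
    calc h * k * x * (k⁻¹ * h⁻¹) = h * (k * x * k⁻¹) * h⁻¹ := by group
      _ = y := by rw [hkx.eq, mul_inv_cancel_right, hconj]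

/-- Distinct conjugates of `z` have a product not commuting with a conjugate of `z`. -/
theorem not_commute_mul (hz : IsIsolatedInvolution z) {c a b : G} (hc : IsConj z c)
    (ha : IsConj z a) (hb : IsConj z b) (hne : a ≠ b) : ¬ Commute (a * b) c := by
  intro hcom
  obtain ⟨g, rfl⟩ := isConj_iff.1 hc
  have hxa : orderOf a = 2 := by
    obtain ⟨g, rfl⟩ := isConj_iff.1 ha; rw [orderOf_conj_eq, hz.1]
  have hxb : orderOf b = 2 := by
    obtain ⟨g, rfl⟩ := isConj_iff.1 hb; rw [orderOf_conj_eq, hz.1]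
  have hinv : a * (a * b) * a⁻¹ = (a * b)⁻¹ := invol_conj_mul hxa hxb
  obtain ⟨k, hk, e⟩ := exists_conj_mem_zpowers hz (isConj_iff.2 ⟨g, rfl⟩) ha
  set c := g * z * g⁻¹
  set u := a * b
  have hcN : c ∈ Subgroup.normalizer ((Subgroup.zpowers u : Subgroup G) : Set G) := by
    refine mem_normalizer_zpowers ?_ ?_
    · rw [← hcom.eq, mul_inv_cancel_right]; exact Subgroup.mem_zpowers u
    · rw [mul_assoc, hcom.eq, inv_mul_cancel_left]; exact Subgroup.mem_zpowers u
  have haN : a ∈ Subgroup.normalizer ((Subgroup.zpowers u : Subgroup G) : Set G) := by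
    have h1 : a * u * a⁻¹ ∈ Subgroup.zpowers u := by
      rw [hinv]; exact inv_mem (Subgroup.mem_zpowers u)
    refine mem_normalizer_zpowers h1 ?_
    rw [inv_eq_self_of_orderOf_two hxa] at h1 ⊢
    exact h1
  have hkN : k ∈ Subgroup.normalizer ((Subgroup.zpowers u : Subgroup G) : Set G) :=
    (Subgroup.zpowers_le.2 (mul_mem hcN haN)) hk
  obtain ⟨i, hi⟩ := Subgroup.mem_zpowers_iff.1
    (show k⁻¹ * u * k ∈ Subgroup.zpowers u by
      have := (Subgroup.mem_normalizer_iff.1 (inv_mem hkN) u).1 (Subgroup.mem_zpowers u)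
      rwa [inv_inv] at this)
  have hau : Commute a u := by
    have h2 : Commute c (k⁻¹ * u * k) := hi ▸ (hcom.zpow_left i).symm
    have := h2.map (MulAut.conj k).toMonoidHom
    simp only [MulEquiv.coe_toMonoidHom, MulAut.conj_apply] at this
    rwa [e, show k * (k⁻¹ * u * k) * k⁻¹ = u by group] at this
  have hu2 : u ^ 2 = 1 := by
    rw [sq]
    have h := hinv
    rw [hau.eq, mul_inv_cancel_right] at h
    exact mul_eq_one_iff_eq_inv.2 h
  obtain ⟨m, hm⟩ := odd_mul hz ha hb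
  have hd : orderOf u ∣ 2 := orderOf_dvd_of_pow_eq_one hu2
  have hu1 : u = 1 := by
    rw [← orderOf_eq_one_iff]
    rcases (Nat.dvd_prime Nat.prime_two).1 hd with h | h
    · exact h
    · exact absurd (h.symm.trans hm) (by omega)
  apply hne
  rw [eq_inv_of_mul_eq_one_left hu1, inv_eq_self_of_orderOf_two hxb]

/-- Every conjugate of `z` is `k z k⁻¹` with `k` of odd order inverted by `z`, `k` a power of the
product. -/
theorem exists_inverted (hz : IsIsolatedInvolution z) {a : G} (ha : IsConj z a) :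
    ∃ k ∈ Subgroup.zpowers (a * z), Odd (orderOf k) ∧ z * k * z⁻¹ = k⁻¹ ∧ k * z * k⁻¹ = a := by
  have hxa : orderOf a = 2 := by
    obtain ⟨g, rfl⟩ := isConj_iff.1 ha; rw [orderOf_conj_eq, hz.1]
  obtain ⟨m, hm⟩ := odd_mul hz ha (IsConj.refl z)
  have hinv : z * (a * z) * z⁻¹ = (a * z)⁻¹ := by
    rw [mul_inv_rev, inv_eq_self_of_orderOf_two hxa, inv_eq_self_of_orderOf_two hz.1,
      mul_assoc z, mul_assoc a, mul_self_of_orderOf_two hz.1, mul_one]
  refine ⟨(a * z) ^ (m + 1), Subgroup.npow_mem_zpowers _ _,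
    odd_orderOf_of_mem_zpowers ⟨m, hm⟩ (Subgroup.npow_mem_zpowers _ _),
    invol_conj_pow hinv _, ?_⟩
  rw [conj_eq_sq_mul (invol_conj_pow hinv _), ← pow_mul,
    show (m + 1) * 2 = orderOf (a * z) + 1 by omega, pow_succ, pow_orderOf_eq_one, one_mul,
    mul_assoc, mul_self_of_orderOf_two hz.1, mul_one]

/-- `k ↦ k z k⁻¹` is injective on odd-order elements inverted by `z`. -/
theorem inverted_injective {k l : G} (hk : Odd (orderOf k) ∧ z * k * z⁻¹ = k⁻¹)
    (hl : Odd (orderOf l) ∧ z * l * z⁻¹ = l⁻¹) (h : k * z * k⁻¹ = l * z * l⁻¹) : k = l := by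
  rw [conj_eq_sq_mul hk.2, conj_eq_sq_mul hl.2, mul_left_inj] at h
  exact eq_of_sq_eq_of_odd hk.1 hl.1 h

/-- A conjugate of `z` commuting with `s` (where `s` commutes with `z`) is `k z k⁻¹` with the
odd-order inverted `k` commuting with `s`. -/
theorem exists_inverted_commute (hz : IsIsolatedInvolution z) {a s : G} (ha : IsConj z a)
    (hsa : Commute s a) (hsz : Commute s z) :
    ∃ k, Odd (orderOf k) ∧ z * k * z⁻¹ = k⁻¹ ∧ Commute k s ∧ k * z * k⁻¹ = a := by
  obtain ⟨k, hk, h1, h2, h3⟩ := exists_inverted hz ha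
  refine ⟨k, h1, h2, ?_, h3⟩
  obtain ⟨i, rfl⟩ := Subgroup.mem_zpowers_iff.1 hk
  exact ((hsa.mul_right hsz).zpow_right i).symm

end CfsgLib.Isolated
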